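import Mathlib
import Groth.Agent.Sweep9Lib.SplitAlg

/-!
Finite free covers of `Spec R` over which standard étale algebras acquire sections.
-/

set_option autoImplicit false
universe u

open Polynomial TensorProduct

namespace Groth.Agent.StdEtCoverLib

open Groth.Agent.Sweep9Lib

variable {R : Type u} [CommRing R]

lemma finitePresentation_splitAlg (r : ℕ) (p : R[X]) :
    Algebra.FinitePresentation R (SplitAlg r p) :=
  Algebra.FinitePresentation.quotient (Submodule.fg_span (Set.finite_range _))

lemma finite_splitAlg {r : ℕ} {p : R[X]} (hp : p.Monic) (hr : p.natDegree = r) :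
    Module.Finite R (SplitAlg r p) :=
  let ⟨b⟩ := nonempty_basis_splitAlg r p hp hr
  Module.Finite.of_basis b

lemma faithfullyFlat_splitAlg {r : ℕ} {p : R[X]} (hp : p.Monic) (hr : p.natDegree = r) :
    Module.FaithfullyFlat R (SplitAlg r p) := by
  obtain ⟨b⟩ := nonempty_basis_splitAlg r p hp hr
  have : Nonempty (Fin r.factorial) := ⟨⟨0, Nat.factorial_pos r⟩⟩
  exact Module.FaithfullyFlat.of_linearEquiv R (Fin r.factorial →₀ R) b.repr

/-- A common field extension of two residue fields over the same prime. -/
lemma exists_field_common {A B : Type u} [CommRing A] [CommRing B] [Algebra R A] [Algebra R B]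
    (q : Ideal A) [q.IsPrime] (q' : Ideal B) [q'.IsPrime] (h : q'.under R = q.under R) :
    ∃ (L : Type u) (_ : Field L) (_ : Algebra R L) (a : A →ₐ[R] L) (b : B →ₐ[R] L),
      RingHom.ker a.toRingHom = q ∧ RingHom.ker b.toRingHom = q' := by
  let k := (q.under R).ResidueField
  let ja : k →+* q.ResidueField := Ideal.ResidueField.map _ q (algebraMap R A) rfl
  let jb : k →+* q'.ResidueField := Ideal.ResidueField.map _ q' (algebraMap R B) h.symm
  let := ja.toAlgebra
  let := jb.toAlgebra
  obtain ⟨M, hM⟩ := Ideal.exists_maximal (q.ResidueField ⊗[k] q'.ResidueField)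
  let L := (q.ResidueField ⊗[k] q'.ResidueField) ⧸ M
  let : Field L := Ideal.Quotient.field M
  let ia : q.ResidueField →+* L :=
    (Ideal.Quotient.mk M).comp Algebra.TensorProduct.includeLeftRingHom
  let ib : q'.ResidueField →+* L :=
    (Ideal.Quotient.mk M).comp
      (Algebra.TensorProduct.includeRight : q'.ResidueField →ₐ[k] _).toRingHom
  have hk : ∀ x : k, ia (ja x) = ib (jb x) := fun x => by
    refine congrArg (Ideal.Quotient.mk M) ?_
    change algebraMap k q.ResidueField x ⊗ₜ[k] 1 = 1 ⊗ₜ[k] algebraMap k q'.ResidueField x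
    rw [Algebra.algebraMap_eq_smul_one, Algebra.algebraMap_eq_smul_one, TensorProduct.smul_tmul]
  let : Algebra R L := ((ia.comp (algebraMap A _)).comp (algebraMap R A)).toAlgebra
  refine ⟨L, inferInstance, inferInstance,
    { toRingHom := ia.comp (algebraMap A _), commutes' := fun r => rfl },
    { toRingHom := ib.comp (algebraMap B _), commutes' := fun r => ?_ }, ?_, ?_⟩
  · change ib (algebraMap B q'.ResidueField (algebraMap R B r)) =
      ia (algebraMap A q.ResidueField (algebraMap R A r))
    rw [← Ideal.ResidueField.map_algebraMap (q.under R) q (algebraMap R A) rfl r,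
      ← Ideal.ResidueField.map_algebraMap (q.under R) q' (algebraMap R B) h.symm r]
    exact (hk _).symm
  · change RingHom.ker (ia.comp (algebraMap A q.ResidueField)) = q
    rw [RingHom.ker_comp_of_injective _ ia.injective, Ideal.ker_algebraMap_residueField]
  · change RingHom.ker (ib.comp (algebraMap B q'.ResidueField)) = q'
    rw [RingHom.ker_comp_of_injective _ ib.injective, Ideal.ker_algebraMap_residueField]

/-- A standard étale algebra acquires sections through every pair of points after a finite
free faithfully flat base change. -/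
theorem exists_cover_of_isStandardEtale (R : Type u) [CommRing R] (S : Type u) [CommRing S]
    [Algebra R S] [Algebra.IsStandardEtale R S] :
    ∃ (S' : Type u) (_ : CommRing S') (_ : Algebra R S'),
      Module.Finite R S' ∧ Algebra.FinitePresentation R S' ∧ Module.FaithfullyFlat R S' ∧
        ∀ (q : Ideal S) [q.IsPrime] (q' : Ideal S') [q'.IsPrime], q'.under R = q.under R →
          ∃ (g' : S') (_ : g' ∉ q') (φ : S →ₐ[R] Localization.Away g'),
            (q'.map (algebraMap S' (Localization.Away g'))).comap φ = q := by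
  obtain ⟨P⟩ := Algebra.IsStandardEtale.nonempty_standardEtalePresentation (R := R) (S := S)
  obtain ⟨r, hr⟩ : ∃ r, P.f.natDegree = r := ⟨_, rfl⟩
  refine ⟨SplitAlg r P.f, inferInstance, inferInstance,
    finite_splitAlg P.monic_f hr, finitePresentation_splitAlg _ _,
    faithfullyFlat_splitAlg P.monic_f hr, fun q _ q' _ hq => ?_⟩
  obtain ⟨L, _, _, a, b, ha, hb⟩ := exists_field_common q q' hq
  have hsplit := map_eq_prod_sroot r P.monic_f hr
  obtain ⟨i, hi⟩ : ∃ i, a P.x = b (sroot r P.f i) := by
    have h1 := congrArg (Polynomial.map b.toRingHom) hsplit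
    rw [Polynomial.map_map, show b.toRingHom.comp (algebraMap R _) = algebraMap R L from b.comp_algebraMap,
      Polynomial.map_prod] at h1
    have h2 := congrArg (Polynomial.eval (a P.x)) h1
    rw [eval_map_algebraMap, aeval_algHom_apply, P.hasMap.1, map_zero, eval_prod, eq_comm,
      Finset.prod_eq_zero_iff] at h2
    obtain ⟨i, -, hi⟩ := h2
    exact ⟨i, by simpa [sub_eq_zero] using hi⟩
  let α := sroot r P.f i
  have hα : aeval α P.f = 0 := by
    rw [← eval_map_algebraMap, hsplit, eval_prod]
    exact Finset.prod_eq_zero (Finset.mem_univ i) (by simp [α])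
  have hbg : b (aeval α P.g) = a (aeval P.x P.g) := by
    rw [← aeval_algHom_apply, ← aeval_algHom_apply, hi]
  have hg : aeval α P.g ∉ q' := by
    rw [← hb, RingHom.mem_ker]
    change b _ ≠ 0
    rw [hbg]
    exact (P.hasMap.2.map a).ne_zero
  let g' := aeval α P.g
  have hm : P.HasMap (algebraMap (SplitAlg r P.f) (Localization.Away g') α) :=
    ⟨by rw [aeval_algebraMap_apply, hα, map_zero],
      by rw [aeval_algebraMap_apply]; exact IsLocalization.Away.algebraMap_isUnit g'⟩
  let φ : S →ₐ[R] Localization.Away g' := (P.P.lift _ hm).comp P.equivRing.toAlgHom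
  have hu : IsUnit (b g') := isUnit_iff_ne_zero.2 fun h => hg (by rwa [← hb])
  let b' : Localization.Away g' →ₐ[R] L := IsLocalization.Away.liftAlgHom g' hu
  refine ⟨g', hg, φ, ?_⟩
  have h1 : b'.comp φ = a := P.hom_ext (by
    change b' ((P.P.lift _ hm) (P.equivRing P.x)) = _
    rw [P.equivRing_x, StandardEtalePair.lift_X, hi]
    exact IsLocalization.Away.lift_eq g' hu α)
  have h2 : RingHom.ker b'.toRingHom = q'.map (algebraMap _ (Localization.Away g')) := by
    conv_lhs => rw [← IsLocalization.map_under (Submonoid.powers g') (Localization.Away g')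
      (RingHom.ker b'.toRingHom)]
    congr 1
    ext x
    change b' (algebraMap _ _ x) = 0 ↔ _
    rw [← hb, RingHom.mem_ker]
    exact (IsLocalization.Away.lift_eq g' hu x).congr_left
  rw [← h2, ← ha, ← h1]
  rfl

/-- Finitely many covers are dominated by one. -/
lemma exists_dominate {ι : Type*} (s : Finset ι) (B : ι → Type u) [∀ i, CommRing (B i)]
    [∀ i, Algebra R (B i)] (h1 : ∀ i, Module.Finite R (B i))
    (h2 : ∀ i, Algebra.FinitePresentation R (B i)) (h3 : ∀ i, Module.FaithfullyFlat R (B i)) :
    ∃ (A : Type u) (_ : CommRing A) (_ : Algebra R A), Module.Finite R A ∧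
      Algebra.FinitePresentation R A ∧ Module.FaithfullyFlat R A ∧
      ∀ i ∈ s, Nonempty (B i →ₐ[R] A) := by
  classical
  induction s using Finset.induction with
  | empty =>
    exact ⟨R, inferInstance, inferInstance, inferInstance, inferInstance, inferInstance,
      fun i hi => by simp at hi⟩
  | @insert j t _ ih =>
    obtain ⟨A, _, _, _, _, _, hA⟩ := ih
    have := h1 j
    have := h2 j
    have := h3 j
    refine ⟨A ⊗[R] B j, inferInstance, inferInstance, inferInstance,
      Algebra.FinitePresentation.trans R A _, Module.FaithfullyFlat.trans R A _, fun i hi => ?_⟩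
    rcases Finset.mem_insert.1 hi with rfl | hi
    · exact ⟨Algebra.TensorProduct.includeRight⟩
    · obtain ⟨f⟩ := hA i hi
      exact ⟨Algebra.TensorProduct.includeLeft.comp f⟩

/-- Zariski locally, an étale algebra surjective on spectra gets a section after a finite free
faithfully flat base change. -/
theorem exists_cover_of_etale_surjective (R : Type u) [CommRing R] (S : Type u) [CommRing S]
    [Algebra R S] [Algebra.Etale R S]
    (hs : Function.Surjective (PrimeSpectrum.comap (algebraMap R S))) :
    ∃ (S' : Type u) (_ : CommRing S') (_ : Algebra R S'),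
      Module.Finite R S' ∧ Algebra.FinitePresentation R S' ∧ Module.FaithfullyFlat R S' ∧
        ∀ (q' : Ideal S') [q'.IsPrime], ∃ (g' : S') (_ : g' ∉ q'),
          Nonempty (S →ₐ[R] Localization.Away g') := by
  classical
  let F : Set S := {f | Algebra.IsStandardEtale R (Localization.Away f)}
  have hF : Ideal.span F = ⊤ := by
    by_contra hne
    obtain ⟨m, hm, hle⟩ := Ideal.exists_le_maximal _ hne
    obtain ⟨f, hf, hfs⟩ := Algebra.IsEtaleAt.exists_isStandardEtale (R := R) m
    exact hf (hle (Ideal.subset_span hfs))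
  obtain ⟨s, hsF, hs1⟩ := (Ideal.span_eq_top_iff_finite F).1 hF
  have H : ∀ f : {f // f ∈ s}, ∃ (S' : Type u) (_ : CommRing S') (_ : Algebra R S'),
      Module.Finite R S' ∧ Algebra.FinitePresentation R S' ∧ Module.FaithfullyFlat R S' ∧
        ∀ (q : Ideal (Localization.Away f.1)) [q.IsPrime] (q' : Ideal S') [q'.IsPrime],
          q'.under R = q.under R →
          ∃ (g' : S') (_ : g' ∉ q') (φ : Localization.Away f.1 →ₐ[R] Localization.Away g'),
            (q'.map (algebraMap S' (Localization.Away g'))).comap φ = q := fun f =>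
    have : Algebra.IsStandardEtale R (Localization.Away f.1) := hsF f.2
    exists_cover_of_isStandardEtale R _
  choose B hB1 hB2 hfin hfp hff hB using H
  obtain ⟨A, _, _, hA1, hA2, hA3, hA⟩ := exists_dominate (R := R) s.attach B hfin hfp hff
  refine ⟨A, inferInstance, inferInstance, hA1, hA2, hA3, fun q' _ => ?_⟩
  obtain ⟨q, hq⟩ := hs ⟨q'.under R, inferInstance⟩
  obtain ⟨f, hf, hfq⟩ : ∃ f ∈ s, f ∉ q.asIdeal := by
    by_contra h
    push Not at h
    exact q.isPrime.ne_top (top_le_iff.1 (hs1 ▸ Ideal.span_le.2 h))
  let Q : Ideal (Localization.Away f) := q.asIdeal.map (algebraMap S _)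
  have hd : Disjoint (Submonoid.powers f : Set S) q.asIdeal :=
    (Ideal.disjoint_powers_iff_notMem_of_isPrime _).mpr hfq
  have : Q.IsPrime := IsLocalization.isPrime_of_isPrime_disjoint (.powers f) _ _ q.isPrime hd
  have hQ : Q.under R = q'.under R := by
    rw [← Ideal.under_under Q (A := R) (B := S)]
    have : Q.under S = q.asIdeal :=
      IsLocalization.under_map_of_isPrime_disjoint (.powers f) _ q.isPrime hd
    rw [this]
    exact congrArg PrimeSpectrum.asIdeal hq
  obtain ⟨ι⟩ := hA ⟨f, hf⟩ (Finset.mem_attach _ _)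
  have : (q'.comap ι).under R = q'.under R := by
    ext x
    simp [Ideal.under, Ideal.mem_comap]
  obtain ⟨g, hg, φ, -⟩ := hB ⟨f, hf⟩ Q (q'.comap ι) (this.trans hQ.symm)
  refine ⟨ι g, hg, ?_⟩
  have hu : IsUnit ((IsScalarTower.toAlgHom R A (Localization.Away (ι g))).comp ι g) :=
    IsLocalization.Away.algebraMap_isUnit (ι g)
  exact ⟨((IsLocalization.Away.liftAlgHom g hu).comp φ).comp
    (IsScalarTower.toAlgHom R S (Localization.Away f))⟩

end Groth.Agent.StdEtCoverLib
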